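import Groth.Prelude.Def_W4bk4git07Quot
import Mathlib.AlgebraicGeometry.OpenImmersion

/-!
The restriction of an action to an invariant open.
-/

set_option autoImplicit false

universe u

open CategoryTheory CategoryTheory.Limits MonoidalCategory CartesianMonoidalCategory MonObj AlgebraicGeometry
  TopologicalSpace

namespace Groth.Agent.H60.GlueQ

noncomputable section

variable {S : Scheme.{u}} {G X : Over S} [GrpObj G]

/-- An open of `X` as an object over the base. -/
abbrev sub (U : X.left.Opens) : Over S := Over.mk (U.ι ≫ X.hom)

/-- The inclusion of an open. -/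
def incl (U : X.left.Opens) : sub U ⟶ X := Over.homMk U.ι rfl

theorem incl_left (U : X.left.Opens) : (incl U).left = U.ι := rfl

instance isOpenImmersion_incl (U : X.left.Opens) : IsOpenImmersion (incl U).left :=
  inferInstanceAs (IsOpenImmersion U.ι)

instance mono_incl (U : X.left.Opens) : Mono (incl U) := Over.mono_of_mono_left _

/-- Invariance of an open under an action. -/
def Stable (a : AlgGrp.Action G X) (U : X.left.Opens) : Prop :=
  a.act.left ⁻¹ᵁ U = (snd G X).left ⁻¹ᵁ U

theorem whisker_act_mem {a : AlgGrp.Action G X} {U : X.left.Opens} (h : Stable a U) (z : (G ⊗ sub U).left) :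
    ((G ◁ incl U) ≫ a.act).left z ∈ U := by
  have h2 : (G ◁ incl U).left z ∈ (snd G X).left ⁻¹ᵁ U := by
    show (snd G X).left ((G ◁ incl U).left z) ∈ U
    rw [← Scheme.Hom.comp_apply, ← Over.comp_left, whiskerLeft_snd]
    exact ((snd G (sub U)).left z).2
  rw [← h] at h2
  exact h2

variable (a : AlgGrp.Action G X) (U : X.left.Opens) (h : Stable a U)

/-- The action map of an invariant open. -/
def actMap : G ⊗ sub U ⟶ sub U :=
  Over.homMk (IsOpenImmersion.lift U.ι ((G ◁ incl U) ≫ a.act).left (by
      rw [Scheme.Opens.range_ι]
      rintro _ ⟨z, rfl⟩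
      exact whisker_act_mem h z))
    (by
      show IsOpenImmersion.lift _ _ _ ≫ U.ι ≫ X.hom = _
      rw [IsOpenImmersion.lift_fac_assoc, Over.w])

theorem actMap_incl : actMap a U h ≫ incl U = (G ◁ incl U) ≫ a.act :=
  Over.OverMorphism.ext (IsOpenImmersion.lift_fac _ _ _)

/-- The action on an invariant open. -/
def resAct : AlgGrp.Action G (sub U) where
  act := actMap a U h
  one_act := by
    rw [← cancel_mono (incl U)]
    simp only [Category.assoc, actMap_incl, ← whisker_exchange_assoc, a.one_act, leftUnitor_naturality]
  mul_act := by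
    rw [← cancel_mono (incl U)]
    simp only [Category.assoc, actMap_incl, ← whisker_exchange_assoc, a.mul_act,
      ← whiskerLeft_comp_assoc, associator_naturality_right_assoc]

theorem resAct_incl : (resAct a U h).act ≫ incl U = (G ◁ incl U) ≫ a.act := actMap_incl a U h

/-- An action on an open is determined by the ambient action. -/
theorem act_eq {b : AlgGrp.Action G (sub U)} {j : sub U ⟶ X} (hj : j.left = U.ι)
    (hb : b.act ≫ j = (G ◁ j) ≫ a.act) : b = resAct a U h := by
  obtain rfl : j = incl U := Over.OverMorphism.ext hj
  have e : b.act = (resAct a U h).act := by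
    rw [← cancel_mono (incl U), hb, resAct_incl]
  cases b
  cases e
  rfl

end

end Groth.Agent.H60.GlueQ
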