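import Groth.Agent.H60.GlueQ.Restrict
import Groth.Agent.H60.AffQuot.Geom

/-!
Invariant affine covers with invariant transition functions, and the transition maps of the quotients.
-/

set_option autoImplicit false

universe u

open CategoryTheory CategoryTheory.Limits MonoidalCategory CartesianMonoidalCategory MonObj AlgebraicGeometry
  TopologicalSpace

namespace Groth.Agent.H60.GlueQ

noncomputable section

/-- Restriction of functions. -/
abbrev rf {W : Scheme.{u}} {U V : W.Opens} (h : V ≤ U) (s : Γ(W, U)) : Γ(W, V) :=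
  W.presheaf.map (homOfLE h).op s

theorem appTop_res' {W W' : Scheme.{u}} (q : W' ⟶ W) {V : W.Opens} (q' : W' ⟶ V.toScheme) (hq : q' ≫ V.ι = q)
    (e : ⊤ ≤ q ⁻¹ᵁ V) (s : Γ(W, V)) : q'.appTop (AffQuot.res V s) = q.appLE V ⊤ e s := by
  subst hq
  show (V.ι.appLE V ⊤ _ ≫ q'.app ⊤) s = _
  rw [Scheme.Hom.app_eq_appLE, Scheme.Hom.appLE_comp_appLE]
  rfl

section General

variable {S : Scheme.{u}} {G X : Over S} [GrpObj G] (a : AlgGrp.Action G X)

/-- A section over an open with equal pullbacks along the action and the projection. -/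
def InvFn (U : X.left.Opens) (f : Γ(X.left, U)) : Prop :=
  a.act.left.appLE U (a.act.left ⁻¹ᵁ U ⊓ (snd G X).left ⁻¹ᵁ U) inf_le_left f =
    (snd G X).left.appLE U (a.act.left ⁻¹ᵁ U ⊓ (snd G X).left ⁻¹ᵁ U) inf_le_right f

theorem InvFn.res_invariant {U : X.left.Opens} (h : Stable a U) {f : Γ(X.left, U)} (hf : InvFn a U f) :
    (resAct a U h).act.left.appTop (AffQuot.res U f) = (snd G (sub U)).left.appTop (AffQuot.res U f) := by
  have h1 : (resAct a U h).act.left ≫ U.ι = (G ◁ incl U).left ≫ a.act.left :=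
    congrArg CommaMorphism.left (resAct_incl a U h)
  have h2 : (snd G (sub U)).left ≫ U.ι = (G ◁ incl U).left ≫ (snd G X).left :=
    congrArg CommaMorphism.left (whiskerLeft_snd (X := G) (incl U)).symm
  have e : ⊤ ≤ (G ◁ incl U).left ⁻¹ᵁ (a.act.left ⁻¹ᵁ U ⊓ (snd G X).left ⁻¹ᵁ U) := by
    intro z _
    exact ⟨whisker_act_mem h z, by
      show (snd G X).left ((G ◁ incl U).left z) ∈ U
      rw [← Scheme.Hom.comp_apply, ← h2]
      exact ((snd G (sub U)).left z).2⟩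
  have e1 : ⊤ ≤ ((G ◁ incl U).left ≫ a.act.left) ⁻¹ᵁ U := fun z hz => (e hz).1
  have e2 : ⊤ ≤ ((G ◁ incl U).left ≫ (snd G X).left) ⁻¹ᵁ U := fun z hz => (e hz).2
  rw [appTop_res' _ _ h1 e1, appTop_res' _ _ h2 e2,
    ← Scheme.Hom.appLE_comp_appLE _ _ U _ ⊤ inf_le_left e, ← Scheme.Hom.appLE_comp_appLE _ _ U _ ⊤ inf_le_right e]
  exact congrArg ((G ◁ incl U).left.appLE _ ⊤ e).hom hf

end General

variable {k : Type u} [Field k] {G X : Over (Spec (CommRingCat.of k))} [GrpObj G] (a : AlgGrp.Action G X)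

/-- An invariant affine cover with invariant transition functions, with quotient data on the pieces. -/
structure Datum where
  J : Type u
  U : J → X.left.Opens
  cover : ∀ x, ∃ i, x ∈ U i
  aff : ∀ i, IsAffineOpen (U i)
  stable : ∀ i, Stable a (U i)
  r : ∀ i _j : J, Γ(X.left, U i)
  basic : ∀ i j, X.left.basicOpen (r i j) = U i ⊓ U j
  r_inv : ∀ i j, InvFn a (U i) (r i j)
  cocycle : ∀ i j l, rf (inf_le_left (b := U j)) (r i j) * rf (inf_le_right (a := U i)) (r j l) =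
    rf inf_le_left (r i l)
  P : ∀ i, AffQuot.Data G (sub (U i))

namespace Datum

variable {a} (D : Datum a)

/-- The action on a piece. -/
abbrev act (i : D.J) : AlgGrp.Action G (sub (D.U i)) := resAct a (D.U i) (D.stable i)

/-- The quotient of a piece. -/
abbrev Yi (i : D.J) : Over (Spec (CommRingCat.of k)) := (D.P i).Y (D.act i)

/-- The quotient map of a piece. -/
abbrev φi (i : D.J) : sub (D.U i) ⟶ D.Yi i := (D.P i).φ (D.act i)

/-- The quotient map of a piece as a morphism of schemes. -/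
abbrev φs (i : D.J) : (D.U i).toScheme ⟶ (D.Yi i).left := (D.φi i).left

theorem isAvg (i : D.J) :
    AffQuot.IsAvgQuot (D.P i).α (D.act i).act.left (snd G (sub (D.U i))).left (D.φs i) :=
  (D.P i).isAvgQuot_self (D.act i)

theorem exists_ρ (i j : D.J) : ∃ ρ : Γ((D.Yi i).left, ⊤), (D.φs i).appTop ρ = AffQuot.res (D.U i) (D.r i j) := by
  have h : AffQuot.res (D.U i) (D.r i j) ∈ Set.range (D.φi i).left.appTop := by
    rw [(D.P i).range_appTop]
    exact InvFn.res_invariant a (D.stable i) (D.r_inv i j)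
  exact h

/-- The transition function on the quotient of a piece. -/
def ρ (i j : D.J) : Γ((D.Yi i).left, ⊤) := (D.exists_ρ i j).choose

theorem ρ_spec (i j : D.J) : (D.φs i).appTop (D.ρ i j) = AffQuot.res (D.U i) (D.r i j) :=
  (D.exists_ρ i j).choose_spec

/-- The overlap in the quotient of a piece. -/
def V (i j : D.J) : (D.Yi i).left.Opens := (D.Yi i).left.basicOpen (D.ρ i j)

theorem preimage_V (i j : D.J) : D.φs i ⁻¹ᵁ D.V i j = (D.U i).ι ⁻¹ᵁ D.U j := by
  rw [V, Scheme.preimage_basicOpen_top, D.ρ_spec, AffQuot.res]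
  show (D.U i).toScheme.basicOpen _ = _
  rw [Scheme.Hom.appLE, CommRingCat.comp_apply, Scheme.basicOpen_res, ← Scheme.preimage_basicOpen, D.basic]
  ext x
  exact ⟨fun h => h.2.2, fun h => ⟨trivial, x.2, h⟩⟩

theorem mem_V_iff (i j : D.J) (x : (D.U i).toScheme) : D.φs i x ∈ D.V i j ↔ (D.U i).ι x ∈ D.U j := by
  show x ∈ D.φs i ⁻¹ᵁ D.V i j ↔ _
  rw [D.preimage_V]
  rfl

theorem V_self (i : D.J) : D.V i i = ⊤ := by
  refine top_le_iff.1 fun y _ => ?_
  obtain ⟨x, rfl⟩ := (D.isAvg i).surjective y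
  rw [D.mem_V_iff]
  exact x.2

/-- Two maps to the quotients of two pieces agree on the points of `X`. -/
def Agree (i j : D.J) {O : Scheme.{u}} (c : O ⟶ (D.Yi i).left) (d : O ⟶ (D.Yi j).left) : Prop :=
  ∀ (P : Scheme.{u}) (x : P ⟶ (D.U i).toScheme) (o : P ⟶ O), x ≫ D.φs i = o ≫ c →
    ∃ y : P ⟶ (D.U j).toScheme, y ≫ (D.U j).ι = x ≫ (D.U i).ι ∧ y ≫ D.φs j = o ≫ d

theorem agree_refl (i : D.J) {O : Scheme.{u}} (c : O ⟶ (D.Yi i).left) : D.Agree i i c c :=
  fun _ x _ h => ⟨x, rfl, h⟩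

theorem Agree.comp {D : Datum a} {i j : D.J} {O O' : Scheme.{u}} {c : O ⟶ (D.Yi i).left} {d : O ⟶ (D.Yi j).left}
    (h : D.Agree i j c d) (f : O' ⟶ O) : D.Agree i j (f ≫ c) (f ≫ d) := fun P x o hx => by
  obtain ⟨y, h1, h2⟩ := h P x (o ≫ f) (hx.trans (Category.assoc _ _ _).symm)
  exact ⟨y, h1, h2.trans (Category.assoc _ _ _)⟩

theorem Agree.trans {D : Datum a} {i j l : D.J} {O : Scheme.{u}} {c : O ⟶ (D.Yi i).left} {d : O ⟶ (D.Yi j).left}
    {e : O ⟶ (D.Yi l).left} (h : D.Agree i j c d) (h' : D.Agree j l d e) : D.Agree i l c e := fun P x o hx => by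
  obtain ⟨y, h1, h2⟩ := h P x o hx
  obtain ⟨z, h3, h4⟩ := h' P y o h2
  exact ⟨z, h3.trans h1, h4⟩

theorem Agree.unique {D : Datum a} {i j : D.J} {O : Scheme.{u}} {jO : O ⟶ (D.Yi i).left} [IsOpenImmersion jO]
    {d d' : O ⟶ (D.Yi j).left} (h : D.Agree i j jO d) (h' : D.Agree i j jO d') : d = d' := by
  refine (D.isAvg i).hom_ext jO ?_
  obtain ⟨y, h1, h2⟩ := h _ (pullback.fst (D.φs i) jO) _ pullback.condition
  obtain ⟨y', h1', h2'⟩ := h' _ (pullback.fst (D.φs i) jO) _ pullback.condition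
  obtain rfl : y = y' := by rw [← cancel_mono (D.U j).ι, h1, h1']
  exact h2.symm.trans h2'

theorem exists_t (i j : D.J) : ∃ t : (D.V i j).toScheme ⟶ (D.Yi j).left, D.Agree i j (D.V i j).ι t := by
  let W : (D.U i).toScheme.Opens := D.φs i ⁻¹ᵁ D.V i j
  let W' : Over (Spec (CommRingCat.of k)) := Over.mk (W.ι ≫ (sub (D.U i)).hom)
  let pr : W' ⟶ sub (D.U i) := Over.homMk W.ι rfl
  haveI : IsOpenImmersion pr.left := inferInstanceAs (IsOpenImmersion W.ι)
  haveI : Mono pr := Over.mono_of_mono_left _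
  let f' : W'.left ⟶ (D.V i j).toScheme := D.φs i ∣_ D.V i j
  have hpb : IsPullback pr.left f' (D.φs i) (D.V i j).ι := (isPullback_morphismRestrict _ _).flip
  have hw : ((G ◁ pr) ≫ (D.act i).act).left ≫ D.φs i = ((snd G W').left ≫ f') ≫ (D.V i j).ι := by
    rw [Category.assoc, ← hpb.w]
    exact congrArg CommaMorphism.left (show ((G ◁ pr) ≫ (D.act i).act) ≫ D.φi i = snd G W' ≫ pr ≫ D.φi i by
      rw [Category.assoc, (D.P i).invariant, whiskerLeft_snd_assoc])
  let σ := hpb.lift _ _ hw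
  have H := (D.P i).isAvgQuot (D.act i) pr f' (D.V i j).ι hpb σ (hpb.lift_fst _ _ hw) (hpb.lift_snd _ _ hw)
  let ω : W' ⟶ sub (D.U j) := Over.homMk (IsOpenImmersion.lift (D.U j).ι (W.ι ≫ (D.U i).ι) (by
      rw [Scheme.Opens.range_ι]
      rintro _ ⟨w, rfl⟩
      exact (D.mem_V_iff i j _).1 w.2))
    (by
      show IsOpenImmersion.lift _ _ _ ≫ (D.U j).ι ≫ X.hom = _
      rw [IsOpenImmersion.lift_fac_assoc]
      rfl)
  have hω : ω ≫ incl (D.U j) = pr ≫ incl (D.U i) := Over.OverMorphism.ext (IsOpenImmersion.lift_fac _ _ _)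
  let σ' : G ⊗ W' ⟶ W' := Over.homMk σ (by
    show σ ≫ pr.left ≫ (sub (D.U i)).hom = _
    rw [hpb.lift_fst_assoc]
    exact Over.w _)
  have hσ' : σ' ≫ pr = (G ◁ pr) ≫ (D.act i).act := Over.OverMorphism.ext (hpb.lift_fst _ _ hw)
  have heq : σ' ≫ ω = (G ◁ ω) ≫ (D.act j).act := by
    rw [← cancel_mono (incl (D.U j))]
    rw [Category.assoc, Category.assoc, hω, resAct_incl, ← Category.assoc σ', hσ', Category.assoc, resAct_incl,
      ← whiskerLeft_comp_assoc, ← whiskerLeft_comp_assoc, hω]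
  obtain ⟨t, ht, -⟩ := H.existsUnique_desc (D.P i).geomRed (ω.left ≫ D.φs j)
    (congrArg CommaMorphism.left (show σ' ≫ ω ≫ D.φi j = snd G W' ≫ ω ≫ D.φi j by
      rw [← Category.assoc, heq, Category.assoc, (D.P j).invariant, whiskerLeft_snd_assoc]))
  refine ⟨t, fun Q x o hx => ?_⟩
  obtain ⟨l, hl1, hl2⟩ := hpb.exists_lift x o hx
  refine ⟨l ≫ ω.left, ?_, ?_⟩
  · rw [Category.assoc, show ω.left ≫ (D.U j).ι = pr.left ≫ (D.U i).ι from congrArg CommaMorphism.left hω,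
      ← Category.assoc, hl1]
  · rw [Category.assoc, ← ht, ← Category.assoc, hl2]

/-- The transition map to the quotient of the other piece. -/
def t₀ (i j : D.J) : (D.V i j).toScheme ⟶ (D.Yi j).left := (D.exists_t i j).choose

theorem agree_t₀ (i j : D.J) : D.Agree i j (D.V i j).ι (D.t₀ i j) := (D.exists_t i j).choose_spec

theorem exists_point (i j : D.J) (v : (D.V i j).toScheme) :
    ∃ (x : (D.U i).toScheme) (y : (D.U j).toScheme),
      D.φs i x = (D.V i j).ι v ∧ D.φs j y = D.t₀ i j v ∧ (D.U j).ι y = (D.U i).ι x := by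
  obtain ⟨x, hx⟩ := (D.isAvg i).surjective ((D.V i j).ι v)
  obtain ⟨z, hz1, hz2⟩ := Scheme.Pullback.exists_preimage_pullback x v hx
  obtain ⟨y, hy1, hy2⟩ := D.agree_t₀ i j _ (pullback.fst (D.φs i) (D.V i j).ι) (pullback.snd _ _)
    pullback.condition
  refine ⟨x, y z, hx, ?_, ?_⟩
  · rw [← Scheme.Hom.comp_apply, hy2, Scheme.Hom.comp_apply, hz2]
  · rw [← Scheme.Hom.comp_apply, hy1, Scheme.Hom.comp_apply, hz1]

theorem t₀_mem_iff (i j l : D.J) (v : (D.V i j).toScheme) :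
    D.t₀ i j v ∈ D.V j l ↔ (D.V i j).ι v ∈ D.V i l := by
  obtain ⟨x, y, hx, hy, hxy⟩ := D.exists_point i j v
  rw [← hx, ← hy, D.mem_V_iff, D.mem_V_iff, hxy]

theorem t₀_mem (i j : D.J) (v : (D.V i j).toScheme) : D.t₀ i j v ∈ D.V j i := by
  rw [D.t₀_mem_iff, D.V_self]
  trivial

theorem t₀_self (i : D.J) : D.t₀ i i = (D.V i i).ι := (D.agree_t₀ i i).unique (D.agree_refl i _)

end Datum

end

end Groth.Agent.H60.GlueQ
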