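import Groth.Agent.H60.GlueQ.Trans
import Groth.Agent.H97.GlueLine
import Groth.Agent.Lib.Ample.GenLocus
import Groth.Agent.Lib.Ample.Pow
import Groth.Agent.Lib.ProjMor.Sec

/-!
An ample invertible module on the glued quotient.
-/

set_option autoImplicit false

universe u

open CategoryTheory CategoryTheory.Limits AlgebraicGeometry TopologicalSpace Opposite

namespace Groth.Agent.H60.GlueQ

noncomputable section

open Groth.Agent.Lib.TensorMod.Dual Groth.Agent.Lib.TensorMod.Gen Groth.Agent.H97.GlueLine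
  Groth.Agent.Lib.ProjMor

/-- A cover with affine members and transition functions with the members as non-vanishing loci carries an ample
invertible module. -/
theorem exists_isAmple_of_cover {Y : Scheme.{u}} [CompactSpace Y] {J : Type u} (O : J → Y.Opens)
    (hO : IsOpenCover O) (haff : ∀ i, IsAffineOpen (O i)) (σ : ∀ i _j : J, Γ(Y, O i))
    (hself : ∀ i, σ i i = 1) (hbasic : ∀ i j, Y.basicOpen (σ i j) = O i ⊓ O j)
    (hmul : ∀ i j l (W : Y.Opens) (hi : W ≤ O i) (hj : W ≤ O j),
      rf hi (σ i j) * rf hj (σ j l) = rf hi (σ i l)) :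
    ∃ M : Y.Modules, CohB1.IsAmple M := by
  let c : Cocycle O :=
    { u := fun i j => rf inf_le_left (σ i j)
      self := fun i W h => by rw [hself, Groth.Agent.H60.GlueQ.rf, map_one]; exact map_one _
      trans := fun i j l W hi hj hl => by
        show Lib.TensorMod.Dual.rf _ (Lib.TensorMod.Dual.rf _ _) * Lib.TensorMod.Dual.rf _ (Lib.TensorMod.Dual.rf _ _) = Lib.TensorMod.Dual.rf _ (Lib.TensorMod.Dual.rf _ _)
        rw [Lib.TensorMod.Dual.rf_rf, Lib.TensorMod.Dual.rf_rf, Lib.TensorMod.Dual.rf_rf]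
        exact hmul i j l W hi hj }
  refine ⟨glue c, Groth.Agent.Lib.Ample.Pow.isAmple_iff.2
    ⟨isInvertible_glue c hO.iSup_eq_top, inferInstance, fun x => ?_⟩⟩
  obtain ⟨i, hi⟩ := Opens.mem_iSup.1 (by rw [hO.iSup_eq_top]; trivial : x ∈ ⨆ i, O i)
  obtain ⟨m, hm, -⟩ := TopCat.Sheaf.existsUnique_gluing'
    (⟨(glue c).presheaf, (glue c).isSheaf⟩ : TopCat.Sheaf Ab.{u} Y) O ⊤
    (fun l => homOfLE le_top) (by rw [hO.iSup_eq_top]) (fun l => σ l i • gen c l) fun l l' => by
      show rs (glue c) (inf_le_left : O l ⊓ O l' ≤ O l) (σ l i • gen c l) =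
        rs (glue c) inf_le_right (σ l' i • gen c l')
      rw [rs_smul, rs_smul, rs_gen c l l' inf_le_left inf_le_right, smul_smul]
      congr 1
      show _ = Lib.TensorMod.Dual.rf _ (σ l' i) * Lib.TensorMod.Dual.rf _ (Lib.TensorMod.Dual.rf _ (σ l l'))
      rw [Lib.TensorMod.Dual.rf_rf, mul_comm]
      exact (hmul l l' i _ inf_le_left inf_le_right).symm
  have hloc : ∀ l, Sec.locus m ⊓ O l = O i ⊓ O l := fun l => by
    rw [Sec.locus_inf_eq (isGen_gen c l) (show Sec.gl m (O l) = σ l i • gen c l from hm l), hbasic, inf_comm]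
  have heq : Sec.locus m = O i := by
    refine le_antisymm (fun y hy => ?_) fun y hy => ?_
    · obtain ⟨l, hl⟩ := Opens.mem_iSup.1 (by rw [hO.iSup_eq_top]; trivial : y ∈ ⨆ i, O i)
      have : y ∈ Sec.locus m ⊓ O l := ⟨hy, hl⟩
      rw [hloc] at this
      exact this.1
    · have : y ∈ O i ⊓ O i := ⟨hy, hy⟩
      rw [← hloc] at this
      exact this.1
  exact .mk one_pos (Groth.Agent.Lib.Ample.Pow.powOne _).symm (Groth.Agent.Lib.Modules.Free.unitHom (glue c) m)
    (heq.ge hi) (show IsAffineOpen (Sec.locus m) by rw [heq]; exact haff i)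

theorem Datum.exists_isAmple {k : Type u} [Field k] {G X : Over (Spec (CommRingCat.of k))}
    [GrpObj G] {a : AlgGrp.Action G X} (D : Datum a) [Finite D.J] :
    ∃ M : D.Y.left.Modules, CohB1.IsAmple M :=
  haveI : CompactSpace D.Y.left := D.compactSpace
  exists_isAmple_of_cover D.W D.W_cover D.W_affine D.σ D.σ_self D.basicOpen_σ
    fun i j l _ hi hj => D.σ_mul i j l hi hj

end

end Groth.Agent.H60.GlueQ
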